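import Groth.Agent.Lib.HensQF6.Basic
import Groth.Agent.Lib.Hens.Local
import Mathlib.RingTheory.AdicCompletion.LocalRing

/-!
An isolated point of the closed fibre over a henselian local ring splits off.
-/

set_option autoImplicit false

universe u

open CategoryTheory Limits AlgebraicGeometry IsLocalRing

set_option backward.isDefEq.respectTransparency false
set_option linter.style.haveILetI false

noncomputable section

namespace Groth.Agent.SplitCompl5

variable {R : Type u} [CommRing R] [IsLocalRing R]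

theorem quasiFiniteAt_of_isolated {X : Scheme.{u}} (f : X ⟶ Spec (CommRingCat.of R)) [LocallyOfFiniteType f]
    (x : X) (hx : f.base x = closedPoint R)
    (hisol : IsOpen ((Subtype.val : (f.base ⁻¹' {closedPoint R}) → X) ⁻¹' {x})) : f.QuasiFiniteAt x := by
  rw [Scheme.Hom.quasiFiniteAt_iff_isOpen_singleton_asFiber, ← (f.fiberHomeo (f x)).isOpen_image,
    Set.image_singleton, Scheme.Hom.asFiber, Homeomorph.apply_symm_apply]
  have key : ∀ (y : Spec (CommRingCat.of R)) (h : f x = y),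
      IsOpen ((Subtype.val : (f.base ⁻¹' {y}) → X) ⁻¹' {x}) → IsOpen ({⟨x, h⟩} : Set (f.base ⁻¹' {y})) := by
    intro y h ho
    have e : ((Subtype.val : (f.base ⁻¹' {y}) → X) ⁻¹' {x}) = {⟨x, h⟩} := by
      ext w
      exact ⟨fun hw => Subtype.ext hw, fun hw => congrArg Subtype.val hw⟩
    exact e ▸ ho
  have h0 : f.base x = f x := rfl
  revert hisol
  rw [← hx]
  exact key (f x) rfl

theorem result [HenselianLocalRing R] {X : Scheme.{u}} (f : X ⟶ Spec (CommRingCat.of R))
    [LocallyOfFiniteType f] [IsSeparated f]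
    (x : X) (hx : f.base x = closedPoint R)
    (hisol : IsOpen ((Subtype.val : (f.base ⁻¹' {closedPoint R}) → X) ⁻¹' {x})) :
    ((Scheme.ΓSpecIso (CommRingCat.of R)).inv ≫ f.appTop ≫ X.presheaf.germ ⊤ x trivial).hom.Finite ∧
      IsOpenImmersion (X.fromSpecStalk x) ∧ IsClosedImmersion (X.fromSpecStalk x) := by
  have hqf := quasiFiniteAt_of_isolated f x hx hisol
  obtain ⟨O, hO, hOx⟩ := isOpen_induced_iff.1 hisol
  have hxO : x ∈ O := (hOx.ge (show (⟨x, hx⟩ : f.base ⁻¹' {closedPoint R}) ∈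
    (Subtype.val ⁻¹' {x} : Set (f.base ⁻¹' {closedPoint R})) from rfl) :)
  obtain ⟨U, hU, hxU, hUle⟩ := exists_isAffineOpen_mem_and_subset (X := X) (x := x)
    (U := f.quasiFiniteLocus ⊓ ⟨O, hO⟩) ⟨hqf, hxO⟩
  have honly : ∀ y ∈ U, f.base y = closedPoint R → y = x := fun y hy hy' =>
    (hOx.le (show (⟨y, hy'⟩ : f.base ⁻¹' {closedPoint R}) ∈ Subtype.val ⁻¹' O from (hUle hy).2) :)
  haveI : LocallyQuasiFinite (U.ι ≫ f) := by
    rw [← X.homOfLE_ι (hUle.trans inf_le_left), Category.assoc]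
    infer_instance
  haveI : IsAffine U.toScheme := hU
  obtain ⟨V, -, hVfin, hV⟩ := HensQF6.exists_finitePart (U.ι ≫ f)
  let W : X.Opens := U.ι ''ᵁ V
  haveI hWfin : IsFinite (W.ι ≫ f) := by
    haveI := hVfin
    rw [← Scheme.Hom.isoImage_inv_ι, Category.assoc, Category.assoc]
    infer_instance
  have hxW : x ∈ W := ⟨⟨x, hxU⟩, hV ⟨x, hxU⟩ hx, rfl⟩
  have hWclosed : IsClosed (W : Set X) := HensQF6.isClosed_of_isFinite_ι f W
  have hWU : W ≤ U := U.ι_image_le V
  haveI : IsAffine W.toScheme := isAffine_of_isAffineHom (W.ι ≫ f)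
  have hWaff : IsAffineOpen W := ‹IsAffine W.toScheme›
  have hmax : ∀ m : Ideal Γ(X, W), m.IsMaximal → m = (hWaff.primeIdealOf ⟨x, hxW⟩).asIdeal := by
    intro m hm
    let p : PrimeSpectrum Γ(X, W) := ⟨m, hm.isPrime⟩
    have hcl : IsClosed ({(hWaff.isoSpec.inv p : W.toScheme)} : Set W.toScheme) := by
      have h1 : IsClosed ({p} : Set (Spec Γ(X, W))) := (PrimeSpectrum.isClosed_singleton_iff_isMaximal _).2 hm
      have h2 := hWaff.isoSpec.inv.homeomorph.isClosedMap _ h1
      rwa [Set.image_singleton] at h2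
    obtain ⟨w, hw, hwcl⟩ := HensQF6.exists_over_closedPoint (W.ι ≫ f) hcl ⟨_, rfl⟩
    have hwx : W.ι w = x := honly _ (hWU w.2) hwcl
    have hw' : hWaff.isoSpec.inv p = ⟨x, hxW⟩ := by rw [← hw]; exact Subtype.ext hwx
    have h3 : hWaff.primeIdealOf ⟨x, hxW⟩ = p := by
      show hWaff.isoSpec.hom ⟨x, hxW⟩ = p
      rw [← hw', ← Scheme.Hom.comp_apply, Iso.inv_hom_id]
      rfl
    rw [h3]
  letI := TopCat.Presheaf.algebra_section_stalk X.presheaf (⟨x, hxW⟩ : W)
  haveI := hWaff.isLocalization_stalk ⟨x, hxW⟩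
  have hunits : (hWaff.primeIdealOf ⟨x, hxW⟩).asIdeal.primeCompl ≤ IsUnit.submonoid Γ(X, W) := by
    intro a ha
    by_contra hu
    obtain ⟨m, hm, hle⟩ := Ideal.exists_le_maximal (Ideal.span {a}) (by rwa [Ne, Ideal.span_singleton_eq_top])
    exact ha (hmax m hm ▸ hle (Ideal.mem_span_singleton_self a))
  have hbij : Function.Bijective (algebraMap Γ(X, W) (X.presheaf.stalk x)) :=
    (IsLocalization.atUnits Γ(X, W) _ (S := X.presheaf.stalk x) hunits).bijective
  haveI hiso : IsIso (X.presheaf.germ W x hxW) := (ConcreteCategory.isIso_iff_bijective _).2 hbij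
  have heq : X.fromSpecStalk x = Spec.map (X.presheaf.germ W x hxW) ≫ hWaff.fromSpec :=
    (hWaff.fromSpecStalk_eq_fromSpecStalk hxW).symm
  haveI hopen : IsOpenImmersion (X.fromSpecStalk x) := by rw [heq]; infer_instance
  refine ⟨?_, hopen, ?_⟩
  · have h1 : (f.appLE ⊤ W le_top).hom.Finite := by
      have h := (W.ι ≫ f).finite_app ⊤ (isAffineOpen_top _)
      have e : (W.ι ≫ f).app ⊤ = f.app ⊤ ≫ W.ι.app (f ⁻¹ᵁ ⊤) := Scheme.Hom.comp_app _ _ _
      have e2 : f.appLE ⊤ W le_top = (W.ι ≫ f).app ⊤ ≫ W.topIso.hom := by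
        rw [e, Scheme.Hom.appLE, Category.assoc, Scheme.Opens.ι_app, Scheme.Opens.topIso_hom]
        congr 1
        rw [← Functor.map_comp]
        congr 1
      rw [e2]
      exact RingHom.Finite.comp (RingHom.Finite.of_surjective _
        (ConcreteCategory.bijective_of_isIso W.topIso.hom).surjective) h
    have h2 : (Scheme.ΓSpecIso (CommRingCat.of R)).inv ≫ f.appTop ≫ X.presheaf.germ ⊤ x trivial =
        (Scheme.ΓSpecIso (CommRingCat.of R)).inv ≫ f.appLE ⊤ W le_top ≫ X.presheaf.germ W x hxW := by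
      rw [Scheme.Hom.appLE, Category.assoc, TopCat.Presheaf.germ_res]
      rfl
    rw [h2]
    refine RingHom.Finite.comp (RingHom.Finite.comp (RingHom.Finite.of_surjective _ hbij.surjective) h1)
      (RingHom.Finite.of_surjective _
        (ConcreteCategory.bijective_of_isIso (Scheme.ΓSpecIso (CommRingCat.of R)).inv).surjective)
  · refine IsClosedImmersion.of_isPreimmersion _ ?_
    have : Set.range (X.fromSpecStalk x) = (W : Set X) := by
      have hr : Set.range (Spec.map (X.presheaf.germ W x hxW)) = Set.univ :=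
        Set.range_eq_univ.2 (Spec.map (X.presheaf.germ W x hxW)).homeomorph.surjective
      rw [heq, Scheme.Hom.comp_base, TopCat.coe_comp, Set.range_comp, hr, Set.image_univ,
        hWaff.range_fromSpec]
    rw [this]
    exact hWclosed

end Groth.Agent.SplitCompl5
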